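import Groth.Agent.H17.Grp.Homog
import Groth.Agent.H17.Chev.FlatLC5

set_option autoImplicit false
set_option linter.style.haveILetI false
universe u
open CategoryTheory MonoidalCategory CartesianMonoidalCategory MonObj GrpObj AlgebraicGeometry Limits

namespace Groth.Agent.H17.Grp

open Groth.Agent.H17.Chev

theorem hom_unit {S : Scheme.{u}} (G : Over S) [GrpObj G] (s : S) :
    G.hom.base (η[G].left.base (s : S)) = s := by
  have h : η[G].left ≫ G.hom = 𝟙 S := Over.w η[G]
  change (η[G].left ≫ G.hom).base s = s
  rw [h]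
  rfl

/-- the dimension of the fibre of a group scheme is the local dimension at the unit point -/
theorem dim_fibre_eq_fibreDimAt_unit {S : Scheme.{u}} (G : Over S) [GrpObj G]
    [LocallyOfFiniteType G.hom] (s : S) :
    topologicalKrullDim ↥(G.hom.base ⁻¹' {s}) =
      FlatMor.fibreDimAt G.hom (η[G].left.base (s : S)) := by
  rw [← dim_fiber_eq]
  apply le_antisymm
  · by_contra hcon
    rw [not_le] at hcon
    obtain ⟨ζ, -, hζ⟩ := exists_isMax_lt_fibreDimAt G.hom s _ hcon
    have hfz : G.hom.base ((G.hom.fiberι s).base ζ) = s := by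
      have : (G.hom.fiberι s).base ζ ∈ Set.range (G.hom.fiberι s).base := ⟨ζ, rfl⟩
      rw [Scheme.Hom.range_fiberι] at this
      exact this
    rw [fibreDimAt_eq_unit G ((G.hom.fiberι s).base ζ), hfz] at hζ
    exact lt_irrefl _ hζ
  · have h := fibreDimAt_le_dim_fiber G.hom (η[G].left.base (s : S))
    rw [hom_unit G s] at h
    exact h

end Groth.Agent.H17.Grp
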