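import Groth.Agent.H17.Grp.Transl
import Groth.Agent.H49.FibreDimAtBC
import Groth.Agent.H17.Chev.FibreLocal

set_option autoImplicit false
set_option linter.style.haveILetI false
universe u
open CategoryTheory MonoidalCategory CartesianMonoidalCategory MonObj GrpObj AlgebraicGeometry Limits

namespace Groth.Agent.H17.Grp

/-- **Homogeneity**: the local fibre dimension of a group scheme at any point equals that at the
unit point of the same fibre. -/
theorem fibreDimAt_eq_unit {S : Scheme.{u}} (G : Over S) [GrpObj G] [LocallyOfFiniteType G.hom]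
    (x : G.left) :
    FlatMor.fibreDimAt G.hom x =
      FlatMor.fibreDimAt G.hom (η[G].left.base (G.hom.base x : S)) := by
  -- the point `x` as a `T`-point, `T = Spec κ(x)`
  let T : Over S := Over.mk (G.left.fromSpecResidueField x ≫ G.hom)
  let g : T ⟶ G := Over.homMk (G.left.fromSpecResidueField x) rfl
  let τ : G ⊗ T ⟶ G ⊗ T := transl G g
  let p1 : pullback G.hom T.hom ⟶ G.left := pullback.fst G.hom T.hom
  let p2 : pullback G.hom T.hom ⟶ T.left := pullback.snd G.hom T.hom
  have hpb : IsPullback p1 p2 G.hom T.hom := IsPullback.of_hasPullback G.hom T.hom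
  haveI : IsIso τ.left := (Over.forget S).map_isIso τ
  have hτ2 : τ.left ≫ p2 = p2 := by
    exact congrArg (fun h => h.left) (transl_snd G g)
  let pt : T.left := IsLocalRing.closedPoint _
  let eT : T ⟶ G ⊗ T := lift (1 : T ⟶ G) (𝟙 T)
  let bT : T ⟶ G ⊗ T := lift g (𝟙 T)
  have hτe : eT.left ≫ τ.left = bT.left := by
    exact congrArg (fun h => h.left) (lift_one_transl G g)
  let a : ↥(pullback G.hom T.hom) := eT.left.base pt
  let b : ↥(pullback G.hom T.hom) := bT.left.base pt
  have hab : τ.left.base a = b := by
    change (eT.left ≫ τ.left).base pt = _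
    rw [hτe]
  -- projections of `a`, `b`
  have hb1 : p1.base b = x := by
    change (bT.left ≫ p1).base pt = x
    have : bT.left ≫ p1 = g.left := by
      exact congrArg (fun h => h.left) (lift_fst g (𝟙 T))
    rw [this]
    exact Scheme.fromSpecResidueField_apply _ _
  have ha1 : p1.base a = η[G].left.base (G.hom.base x : S) := by
    change (eT.left ≫ p1).base pt = _
    have : eT.left ≫ p1 = T.hom ≫ η[G].left := by
      exact congrArg (fun h => h.left) (lift_fst (1 : T ⟶ G) (𝟙 T))
    rw [this, Scheme.Hom.comp_base, TopCat.comp_app]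
    congr 1
    change (G.left.fromSpecResidueField x ≫ G.hom).base pt = _
    rw [Scheme.Hom.comp_base, TopCat.comp_app]
    congr 1
    exact Scheme.fromSpecResidueField_apply _ _
  have h1 := Groth.Agent.H49.FibreDimAtBC.fibreDimAt_eq_of_isPullback G.hom T.hom p2 p1 hpb a
  have h2 := Groth.Agent.H49.FibreDimAtBC.fibreDimAt_eq_of_isPullback G.hom T.hom p2 p1 hpb b
  have h3 := Groth.Agent.H17.Chev.fibreDimAt_eq_of_isOpenImmersion p2 p2 τ.left (𝟙 _)
    Function.injective_id (by rw [Category.comp_id, hτ2]) a
  rw [hab] at h3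
  rw [← ha1, ← h1, h3, h2, hb1]

end Groth.Agent.H17.Grp
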