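import Mathlib

set_option autoImplicit false
universe u
open CategoryTheory MonoidalCategory CartesianMonoidalCategory MonObj GrpObj

namespace Groth.Agent.H17.Grp

variable {C : Type*} [Category C] [CartesianMonoidalCategory C] (G : C) [GrpObj G] {T : C}

/-- left translation on `G ⊗ T` by a `T`-point `g` of `G` -/
noncomputable def transl (g : T ⟶ G) : G ⊗ T ⟶ G ⊗ T :=
  lift ((snd G T ≫ g) * fst G T) (snd G T)

@[reassoc (attr := simp)]
theorem transl_snd (g : T ⟶ G) : transl G g ≫ snd G T = snd G T := by
  simp [transl]

@[reassoc (attr := simp)]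
theorem transl_fst (g : T ⟶ G) : transl G g ≫ fst G T = (snd G T ≫ g) * fst G T := by
  simp [transl]

theorem transl_comp (g h : T ⟶ G) : transl G g ≫ transl G h = transl G (h * g) := by
  apply CartesianMonoidalCategory.hom_ext
  · rw [Category.assoc, transl_fst, MonObj.comp_mul, transl_fst, transl_snd_assoc, transl_fst,
      MonObj.comp_mul, _root_.mul_assoc]
  · simp

theorem transl_one : transl G (1 : T ⟶ G) = 𝟙 (G ⊗ T) := by
  apply CartesianMonoidalCategory.hom_ext
  · rw [transl_fst, MonObj.comp_one, _root_.one_mul, Category.id_comp]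
  · simp

instance isIso_transl (g : T ⟶ G) : IsIso (transl G g) :=
  ⟨transl G g⁻¹, by rw [transl_comp, inv_mul_cancel, transl_one],
    by rw [transl_comp, mul_inv_cancel, transl_one]⟩

/-- translation maps the unit section to the section `g` -/
theorem lift_one_transl (g : T ⟶ G) :
    lift (1 : T ⟶ G) (𝟙 T) ≫ transl G g = lift g (𝟙 T) := by
  apply CartesianMonoidalCategory.hom_ext
  · rw [Category.assoc, transl_fst, MonObj.comp_mul, lift_snd_assoc, Category.id_comp, lift_fst,
      _root_.mul_one, lift_fst]
  · simp

end Groth.Agent.H17.Grp
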